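import Groth.Agent.L27.TopInv.Sections
import Groth.Prelude.Def_Curv2
import Mathlib.AlgebraicGeometry.Sites.Fpqc
import Mathlib.AlgebraicGeometry.Morphisms.Etale
import Mathlib.FieldTheory.Galois.Basic
import Mathlib.RingTheory.Etale.Field

/-!
Morphisms out of a Galois base change that are invariant under the Galois group descend.
-/

set_option autoImplicit false
set_option backward.isDefEq.respectTransparency.types false

universe u

open CategoryTheory CategoryTheory.Limits AlgebraicGeometry

namespace Groth.L24.Galois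

variable {k : Type u} [Field k] {K : Type u} [Field K] [Algebra k K]

theorem exists_comp_eq [Normal k K] {Ω : Type u} [Field Ω] [Algebra k Ω] (α β : K →ₐ[k] Ω) :
    ∃ σ : K ≃ₐ[k] K, α.comp (σ : K →ₐ[k] K) = β := by
  have hex : ∀ x, ∃ y, α y = β x := by
    intro x
    have hi : IsIntegral k x := Algebra.IsIntegral.isIntegral x
    have hs : ((minpoly k x).map (algebraMap k K)).Splits := Normal.splits inferInstance x
    have hr : β x ∈ (((minpoly k x).map (algebraMap k K)).map α.toRingHom).roots := by
      rw [Polynomial.map_map, show α.toRingHom.comp (algebraMap k K) = algebraMap k Ω from α.comp_algebraMap,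
        Polynomial.mem_roots (Polynomial.map_ne_zero (minpoly.ne_zero hi)),
        Polynomial.IsRoot.def, Polynomial.eval_map, ← Polynomial.aeval_def, Polynomial.aeval_algHom_apply, minpoly.aeval, map_zero]
    rw [hs.roots_map, Multiset.mem_map] at hr
    obtain ⟨y, -, hy⟩ := hr
    exact ⟨y, hy⟩
  choose s hs using hex
  have hinj : Function.Injective α := α.toRingHom.injective
  let σ₀ : K →ₐ[k] K :=
    { toFun := s
      map_one' := hinj (by rw [hs, map_one, map_one])
      map_mul' := fun a b => hinj (by rw [hs, map_mul, map_mul, hs, hs])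
      map_zero' := hinj (by rw [hs, map_zero, map_zero])
      map_add' := fun a b => hinj (by rw [hs, map_add, map_add, hs, hs])
      commutes' := fun r => hinj (by rw [hs, AlgHom.commutes, AlgHom.commutes]) }
  exact ⟨AlgEquiv.ofBijective σ₀ (Algebra.IsAlgebraic.algHom_bijective σ₀), AlgHom.ext fun x => hs x⟩

variable (X : Scheme.{u}) [X.Over (Spec (CommRingCat.of k))]

theorem galAct_fst (σ : K ≃ₐ[k] K) : Curv2.galAct k X K σ ≫ Curv2.bcFst k X K = Curv2.bcFst k X K :=
  (pullback.lift_fst _ _ _).trans (Category.comp_id _)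

theorem exists_descent [FiniteDimensional k K] [IsGalois k K] {Y : Scheme.{u}}
    (h : Curv2.bc k X K ⟶ Y) (hh : ∀ σ : K ≃ₐ[k] K, Curv2.galAct k X K σ ≫ h = h) :
    ∃ f : X ⟶ Y, Curv2.bcFst k X K ≫ f = h := by
  let p : Curv2.bc k X K ⟶ X := Curv2.bcFst k X K
  let ι := CommRingCat.ofHom (algebraMap k K)
  have hι : Etale (Spec.map ι) := by
    rw [HasRingHomProperty.Spec_iff (P := @Etale)]
    haveI : Algebra.FormallyEtale k K := Algebra.FormallyEtale.of_isSeparable k K
    haveI : Algebra.FinitePresentation k K := Algebra.FinitePresentation.of_finiteType.mp inferInstance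
    exact RingHom.etale_algebraMap.2 (show Algebra.Etale k K from {})
  haveI hf : IsFinite (Spec.map ι) := by
    rw [IsFinite.SpecMap_iff]
    exact RingHom.finite_algebraMap.2 inferInstance
  haveI : Surjective (Spec.map ι) := by
    refine ⟨fun y => ⟨default, ?_⟩⟩
    exact Subsingleton.elim (α := PrimeSpectrum k) _ _
  haveI : Etale p := MorphismProperty.pullback_fst (P := @Etale) _ _ hι
  haveI : Surjective p := MorphismProperty.pullback_fst (P := @Surjective) _ _ ‹_›
  haveI : QuasiCompact p := MorphismProperty.pullback_fst (P := @QuasiCompact) _ _ inferInstance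
  let γ : (K ≃ₐ[k] K) → (Curv2.bc k X K ⟶ pullback p p) := fun σ =>
    pullback.lift (𝟙 _) (Curv2.galAct k X K σ) (by
      rw [Category.id_comp]; exact (galAct_fst X σ).symm)
  haveI : ∀ σ, IsOpenImmersion (γ σ) := fun σ => by
    haveI : Etale (pullback.fst p p) := MorphismProperty.pullback_fst (P := @Etale) _ _ ‹_›
    exact Groth.L27.TopInv.isOpenImmersion_section (pullback.fst p p) (γ σ) (pullback.lift_fst _ _ _)
  have hcov : ∀ c, ∃ σ z, γ σ z = c := fun c => by
    let P := pullback p p
    let ξ := P.fromSpecResidueField c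
    let ξa := ξ ≫ pullback.fst p p
    let ξb := ξ ≫ pullback.snd p p
    have hab : ξa ≫ p = ξb ≫ p := by simp only [ξa, ξb, Category.assoc, pullback.condition]
    let A := ξa ≫ Curv2.bcSnd k X K
    let B := ξb ≫ Curv2.bcSnd k X K
    obtain ⟨φ, hφ⟩ : ∃ φ, Spec.map φ = A := ⟨_, Spec.map_preimage _⟩
    obtain ⟨ψ, hψ⟩ : ∃ ψ, Spec.map ψ = B := ⟨_, Spec.map_preimage _⟩
    have hA : A ≫ Spec.map ι = (ξa ≫ p) ≫ (X ↘ Spec (CommRingCat.of k)) := by
      simp only [A, p, Category.assoc, pullback.condition, ι]
    have hB : B ≫ Spec.map ι = (ξb ≫ p) ≫ (X ↘ Spec (CommRingCat.of k)) := by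
      simp only [B, p, Category.assoc, pullback.condition, ι]
    have hAB : ι ≫ φ = ι ≫ ψ := by
      apply Spec.map_injective
      rw [Spec.map_comp, Spec.map_comp, hφ, hψ, hA, hB, hab]
    letI : Algebra k (P.residueField c) := (ι ≫ φ).hom.toAlgebra
    let α : K →ₐ[k] P.residueField c := { φ.hom with commutes' := fun r => rfl }
    let β : K →ₐ[k] P.residueField c :=
      { ψ.hom with commutes' := fun r => (congrArg (fun m => m.hom r) hAB).symm }
    obtain ⟨σ, hσ⟩ := exists_comp_eq α β
    have key : ξa ≫ Curv2.galAct k X K σ = ξb := by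
      apply pullback.hom_ext
      · refine Eq.trans ?_ hab
        simp only [Category.assoc]
        exact congrArg (ξa ≫ ·) (galAct_fst X σ)
      · refine Eq.trans ?_ hψ
        simp only [Category.assoc]
        rw [show Curv2.galAct k X K σ ≫ pullback.snd _ _ =
          Curv2.bcSnd k X K ≫ Spec.map (CommRingCat.ofHom (σ : K →ₐ[k] K).toRingHom) from pullback.lift_snd _ _ _]
        rw [← Category.assoc, show ξa ≫ Curv2.bcSnd k X K = Spec.map φ from hφ.symm, ← Spec.map_comp]
        congr 1
        ext x
        exact AlgHom.congr_fun hσ x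
    have hc : ξa ≫ γ σ = ξ := by
      refine pullback.hom_ext ?_ ?_
      · rw [Category.assoc, pullback.lift_fst, Category.comp_id]
      · rw [Category.assoc, pullback.lift_snd, key]
    refine ⟨σ, ξa default, ?_⟩
    rw [← Scheme.Hom.comp_apply, hc]
    exact Scheme.fromSpecResidueField_apply _ _
  have hp : pullback.fst p p ≫ h = pullback.snd p p ≫ h := by
    choose σ z hz using hcov
    let 𝒱 : (pullback p p).OpenCover :=
      Scheme.Cover.mkOfCovers (K ≃ₐ[k] K) (fun _ => Curv2.bc k X K) γ (fun c => ⟨σ c, z c, hz c⟩) (fun _ => inferInstance)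
    refine 𝒱.hom_ext _ _ fun τ => ?_
    show γ τ ≫ _ = γ τ ≫ _
    rw [← Category.assoc, ← Category.assoc, pullback.lift_fst, pullback.lift_snd, Category.id_comp, hh]
  refine ⟨EffectiveEpi.desc p h fun {Z} g₁ g₂ e => ?_, EffectiveEpi.fac _ _ _⟩
  have := congrArg (pullback.lift g₁ g₂ e ≫ ·) hp
  rwa [pullback.lift_fst_assoc, pullback.lift_snd_assoc] at this

end Groth.L24.Galois
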